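import Groth.Agent.GeomRedFlat5.Bridge
import Groth.Agent.SmoothReg.GeomRegularAt
import Groth.Agent.SmoothReg.Scheme
import Groth.Agent.S1562
import Groth.Agent.LC.GorHull
import Groth.Agent.MorLib.SmoothLocus
import Groth.Agent.FlatPtDesc.Basic
import Groth.Agent.S2156
import Groth.Prelude.Def_EGA43
import Groth.Prelude.Def_Found

/-!
# Smoothness of a fibre at a point and geometric regularity of its local ring
-/

set_option autoImplicit false
set_option backward.isDefEq.respectTransparency false
set_option backward.isDefEq.respectTransparency.types false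
set_option linter.style.haveILetI false

universe u

open CategoryTheory Limits AlgebraicGeometry IsLocalRing TensorProduct

namespace Groth.Agent.SmNhd17

theorem geometricallyRegular_of_algEquiv {k : Type u} [Field k] {S T : Type u} [CommRing S] [CommRing T]
    [Algebra k S] [Algebra k T] (e : S ≃ₐ[k] T) (h : CAlg.IsGeometricallyRegular k S) :
    CAlg.IsGeometricallyRegular k T := fun K _ _ hK => by
  haveI := h K hK
  exact IsRegularRing.of_ringEquiv (Algebra.TensorProduct.congr (AlgEquiv.refl (R := k) (A₁ := K)) e).toRingEquiv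

variable {X Y : Scheme.{u}} (f : X ⟶ Y) (x : X)

/-- The local ring of the fibre is the quotient of the local ring, as algebras over the residue field. -/
theorem exists_algEquiv_fibre_stalk :
    letI φ := (f.stalkMap x).hom
    letI 𝔪 := IsLocalRing.maximalIdeal ↑(Y.presheaf.stalk (f.base x))
    letI : Algebra (IsLocalRing.ResidueField ↑(Y.presheaf.stalk (f.base x))) (↑(X.presheaf.stalk x) ⧸ 𝔪.map φ) :=
      (Ideal.quotientMap (𝔪.map φ) φ Ideal.le_comap_map).toAlgebra
    letI : (f.fiber (f.base x)).Over (Spec (CommRingCat.of (ResidueField ↑(Y.presheaf.stalk (f.base x))))) :=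
      ⟨f.fiberToSpecResidueField (f.base x)⟩
    letI := Curv2.stalkAlgebra (ResidueField ↑(Y.presheaf.stalk (f.base x))) (f.fiber (f.base x)) (f.asFiber x)
    Nonempty ((↑(X.presheaf.stalk x) ⧸ 𝔪.map φ) ≃ₐ[ResidueField ↑(Y.presheaf.stalk (f.base x))]
      (f.fiber (f.base x)).presheaf.stalk (f.asFiber x)) := by
  let A := Y.presheaf.stalk (f.base x)
  let κ := ResidueField A
  let φ := (f.stalkMap x).hom
  let 𝔪 := IsLocalRing.maximalIdeal ↑A
  letI : Algebra κ (↑(X.presheaf.stalk x) ⧸ 𝔪.map φ) :=
    (Ideal.quotientMap (𝔪.map φ) φ Ideal.le_comap_map).toAlgebra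
  let F := f.fiber (f.base x)
  let t : F ⟶ Spec (CommRingCat.of κ) := f.fiberToSpecResidueField (f.base x)
  letI : F.Over (Spec (CommRingCat.of κ)) := ⟨t⟩
  let w : F := f.asFiber x
  letI := Curv2.stalkAlgebra κ F w
  have e : f.fiberι (f.base x) w = x := f.fiberι_asFiber x
  let j := X.presheaf.stalkSpecializes (specializes_of_eq e) ≫ (f.fiberι (f.base x)).stalkMap w
  let σ : Y.residueField (f.base x) ⟶ F.presheaf.stalk w := CommRingCat.ofHom (Curv2.stalkMap κ F w)
  have hσ : F.fromSpecStalk w ≫ t = Spec.map σ := by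
    rw [GeomRedFlat5.fromSpecStalk_comp_eq]; rfl
  have key : f.stalkMap x ≫ j = Y.residue (f.base x) ≫ σ := by
    apply Spec.map_injective
    rw [← cancel_mono (Y.fromSpecStalk (f.base x))]
    have l : (Spec.map j ≫ Spec.map (f.stalkMap x)) ≫ Y.fromSpecStalk (f.base x) =
        F.fromSpecStalk w ≫ f.fiberι (f.base x) ≫ f := by
      rw [Category.assoc, Scheme.SpecMap_stalkMap_fromSpecStalk, Spec.map_comp, Category.assoc,
        Scheme.SpecMap_stalkSpecializes_fromSpecStalk_assoc, Scheme.SpecMap_stalkMap_fromSpecStalk_assoc]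
    rw [Spec.map_comp, l]
    refine Eq.trans ?_ ((Category.assoc _ _ _).symm.trans (congrArg (· ≫ _) (Spec.map_comp _ _).symm))
    show F.fromSpecStalk w ≫ f.fiberι (f.base x) ≫ f = Spec.map σ ≫ Y.fromSpecResidueField (f.base x)
    refine Eq.trans ?_ (congrArg (· ≫ Y.fromSpecResidueField (f.base x)) hσ)
    exact (congrArg (F.fromSpecStalk w ≫ ·) (f.fiber_fac (f.base x))).trans (Category.assoc _ _ _).symm
  have hker := GeomRedFlat5.ker_specializes f w e
  let g : (↑(X.presheaf.stalk x) ⧸ 𝔪.map φ) →+* F.presheaf.stalk w :=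
    Ideal.Quotient.lift _ j.hom (fun a ha => RingHom.mem_ker.1 (hker.symm ▸ ha))
  have hg : Function.Bijective g := by
    refine ⟨?_, ?_⟩
    · rw [injective_iff_map_eq_zero]
      intro a ha
      obtain ⟨s, rfl⟩ := Ideal.Quotient.mk_surjective a
      rw [Ideal.Quotient.eq_zero_iff_mem]
      exact hker ▸ (RingHom.mem_ker.2 ha : s ∈ RingHom.ker j.hom)
    · intro v
      obtain ⟨s, hs⟩ := GeomRedFlat5.surjective_specializes f w e v
      exact ⟨Ideal.Quotient.mk _ s, hs⟩
  refine ⟨AlgEquiv.ofRingEquiv (f := RingEquiv.ofBijective g hg) fun c => ?_⟩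
  obtain ⟨a, rfl⟩ := IsLocalRing.residue_surjective c
  exact congr($key a)

/-- The fibre is smooth at a point iff its local ring is geometrically regular. -/
theorem fibre_smooth_iff [LocallyOfFiniteType f] :
    letI φ := (f.stalkMap x).hom
    letI 𝔪 := IsLocalRing.maximalIdeal ↑(Y.presheaf.stalk (f.base x))
    letI : Algebra (IsLocalRing.ResidueField ↑(Y.presheaf.stalk (f.base x))) (↑(X.presheaf.stalk x) ⧸ 𝔪.map φ) :=
      (Ideal.quotientMap (𝔪.map φ) φ Ideal.le_comap_map).toAlgebra
    f.asFiber x ∈ (f.fiberToSpecResidueField (f.base x)).smoothLocus ↔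
      CAlg.IsGeometricallyRegular (IsLocalRing.ResidueField ↑(Y.presheaf.stalk (f.base x)))
        (↑(X.presheaf.stalk x) ⧸ 𝔪.map φ) := by
  let A := Y.presheaf.stalk (f.base x)
  let κ := ResidueField A
  let φ := (f.stalkMap x).hom
  let 𝔪 := IsLocalRing.maximalIdeal ↑A
  letI : Algebra κ (↑(X.presheaf.stalk x) ⧸ 𝔪.map φ) :=
    (Ideal.quotientMap (𝔪.map φ) φ Ideal.le_comap_map).toAlgebra
  let F := f.fiber (f.base x)
  let t : F ⟶ Spec (CommRingCat.of κ) := f.fiberToSpecResidueField (f.base x)
  letI : F.Over (Spec (CommRingCat.of κ)) := ⟨t⟩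
  let w : F := f.asFiber x
  letI := Curv2.stalkAlgebra κ F w
  haveI : LocallyOfFiniteType t :=
    MorphismProperty.pullback_snd (P := @LocallyOfFiniteType) f _ inferInstance
  haveI : LocallyOfFinitePresentation t := LocallyOfFinitePresentation.iff_locallyOfFiniteType.2 inferInstance
  haveI : LocallyOfFinitePresentation (F ↘ Spec (CommRingCat.of κ)) := ‹LocallyOfFinitePresentation t›
  haveI : IsLocallyNoetherian F := LocallyOfFiniteType.isLocallyNoetherian t
  obtain ⟨e⟩ := exists_algEquiv_fibre_stalk f x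
  show w ∈ (F ↘ Spec (CommRingCat.of κ)).smoothLocus ↔ CAlg.IsGeometricallyRegular κ (↑(X.presheaf.stalk x) ⧸ 𝔪.map φ)
  rw [← Groth.Agent.S1562.result κ F w]
  constructor
  · intro h
    refine geometricallyRegular_of_algEquiv e.symm fun K _ _ hK => ?_
    haveI : FiniteDimensional κ K := hK
    haveI : Algebra.EssFiniteType κ K := inferInstance
    haveI := SmoothReg.isRegularRing_tensor_stalk (k := κ) (X := F) w K
      (h K (IntermediateField.fg_top_iff.2 inferInstance))
    exact IsRegularRing.of_ringEquiv (Algebra.TensorProduct.comm κ (F.presheaf.stalk w) K).toRingEquiv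
  · intro h
    refine SmoothReg.isGeomRegularAt_of_purelyInseparable w fun K _ _ _ _ x' hx' => ?_
    haveI := geometricallyRegular_of_algEquiv e h K inferInstance
    haveI : IsRegularRing (F.presheaf.stalk w ⊗[κ] K) :=
      IsRegularRing.of_ringEquiv (Algebra.TensorProduct.comm κ K (F.presheaf.stalk w)).toRingEquiv
    exact SmoothReg.isRegularLocalRing_of_isRegularRing_tensor_stalk w K x' hx'

/-- A smooth point of a scheme over a field is geometrically reduced. -/
theorem isGeomReducedAt_of_smooth {k : Type u} [Field k] {Z : Scheme.{u}} (t : Z ⟶ Spec (CommRingCat.of k))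
    [LocallyOfFinitePresentation t] {z : Z} (h : z ∈ t.smoothLocus) : FBase.IsGeomReducedAt t z := by
  intro K _ _ z' hz'
  have hz : z' ∈ (pullback.snd t (Spec.map (CommRingCat.ofHom (algebraMap k K)))).smoothLocus :=
    MorLib.SmoothLoc.preimage_le t _ _ _ (IsPullback.of_hasPullback _ _)
      (show (FBase.bcπ t K).base z' ∈ t.smoothLocus from hz'.symm ▸ h)
  haveI : IsRegularLocalRing ((FBase.bc t K).presheaf.stalk z') :=
    SmoothReg.isRegularLocalRing_stalk_of_mem_smoothLocus _ hz
  haveI := RegLoc6.isDomain_of_isRegularLocalRing ((FBase.bc t K).presheaf.stalk z')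
  infer_instance

/-- A smooth point of a scheme over a field has Cohen-Macaulay local ring. -/
theorem cohenMacaulay_of_smooth {k : Type u} [Field k] {Z : Scheme.{u}} (t : Z ⟶ Spec (CommRingCat.of k))
    [LocallyOfFinitePresentation t] {z : Z} (h : z ∈ t.smoothLocus) :
    LocCoh.IsCohenMacaulayLocalRing (Z.presheaf.stalk z) := by
  haveI := SmoothReg.isRegularLocalRing_stalk_of_mem_smoothLocus _ h
  haveI := LC.gorenstein_of_isRegularLocalRing (R := Z.presheaf.stalk z)
  exact LC.isCohenMacaulayLocalRing_of_gorenstein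

/-- A morphism is universally open at every point of its smooth locus. -/
theorem isUnivOpenAt_of_smooth [LocallyOfFinitePresentation f] {x : X} (h : x ∈ f.smoothLocus) :
    EGA43.IsUnivOpenAt f x := by
  intro Y' g x' hx'
  let p := pullback.snd f g
  haveI : LocallyOfFinitePresentation p := inferInstance
  have hmem : x' ∈ p.smoothLocus :=
    MorLib.SmoothLoc.preimage_le f g _ _ (IsPullback.of_hasPullback _ _)
      (show (pullback.fst f g).base x' ∈ f.smoothLocus from hx'.symm ▸ h)
  obtain ⟨U, hU, hs⟩ := (FlatPtDesc.exists_smooth_nhd_iff p x').2 hmem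
  haveI := hs
  intro W hW
  have ho : IsOpenMap (U.ι ≫ p).base := (U.ι ≫ p).isOpenMap
  have h1 := (ho.image_mem_nhds (x := ⟨x', hU⟩)) (U.ι.continuous.continuousAt.preimage_mem_nhds hW)
  refine Filter.mem_of_superset h1 ?_
  rintro _ ⟨a, ha, rfl⟩
  exact ⟨U.ι a, ha, rfl⟩

variable [IsLocallyNoetherian Y] [LocallyOfFiniteType f]

/-- What a smooth neighbourhood gives at a point. -/
theorem of_smooth_nhd (h : ∃ U : X.Opens, x ∈ U ∧ Smooth (U.ι ≫ f)) :
    x ∈ f.smoothLocus ∧ (f.stalkMap x).hom.Flat ∧
      f.asFiber x ∈ (f.fiberToSpecResidueField (f.base x)).smoothLocus := by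
  haveI : LocallyOfFinitePresentation f := LocallyOfFinitePresentation.iff_locallyOfFiniteType.2 inferInstance
  haveI : LocallyOfFinitePresentation (f.fiberToSpecResidueField (f.base x)) := inferInstance
  have hm := (FlatPtDesc.exists_smooth_nhd_iff f x).1 h
  exact ⟨hm, (Groth.Agent.S2156.result f x).1 hm⟩

/-- A flat point with smooth fibre has a smooth neighbourhood. -/
theorem smooth_nhd_of_flat (hflat : (f.stalkMap x).hom.Flat)
    (h : f.asFiber x ∈ (f.fiberToSpecResidueField (f.base x)).smoothLocus) :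
    ∃ U : X.Opens, x ∈ U ∧ Smooth (U.ι ≫ f) := by
  haveI : LocallyOfFinitePresentation f := LocallyOfFinitePresentation.iff_locallyOfFiniteType.2 inferInstance
  haveI : LocallyOfFinitePresentation (f.fiberToSpecResidueField (f.base x)) := inferInstance
  rw [FlatPtDesc.exists_smooth_nhd_iff]
  exact (Groth.Agent.S2156.result f x).2 ⟨hflat, h⟩

theorem lfp_fibre {X Y : Scheme.{u}} (f : X ⟶ Y) [LocallyOfFiniteType f] (y : Y) :
    LocallyOfFinitePresentation (f.fiberToSpecResidueField y) := by
  haveI : LocallyOfFiniteType (f.fiberToSpecResidueField y) :=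
    MorphismProperty.pullback_snd (P := @LocallyOfFiniteType) f _ inferInstance
  exact LocallyOfFinitePresentation.iff_locallyOfFiniteType.2 inferInstance

theorem specializes_of_fiber {X Y : Scheme.{u}} (f : X ⟶ Y) (x : X) {z : ↥(f.fiber (f.base x))}
    (hz : f.asFiber x ∈ closure {z}) : (f.fiberι (f.base x)).base z ⤳ x := by
  have h2 := (specializes_iff_mem_closure.2 hz).map (f.fiberι (f.base x)).continuous
  have h3 : (f.fiberι (f.base x)).base z ⤳ (f.fiberι (f.base x)).base (f.asFiber x) := h2
  exact h3.trans (specializes_of_eq (f.fiberι_asFiber x))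

end Groth.Agent.SmNhd17
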